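import Groth.Agent.Cat58.Space
import Mathlib.RingTheory.MvPolynomial.Localization
import Mathlib.RingTheory.FiniteType
import Mathlib.AlgebraicGeometry.Noetherian
import Mathlib.AlgebraicGeometry.Morphisms.FiniteType

/-! Catenary rings: quotients, localizations; universally catenary schemes. -/

set_option autoImplicit false
universe u

open CategoryTheory TopologicalSpace AlgebraicGeometry

namespace Groth.Agent.Cat58

variable {R A : Type u} [CommRing R] [CommRing A]

lemma isCatenary_of_comap (φ : R →+* A)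
    (hle : ∀ p q : PrimeSpectrum A, PrimeSpectrum.comap φ p ≤ PrimeSpectrum.comap φ q → p ≤ q)
    (hconn : (Set.range (PrimeSpectrum.comap φ)).OrdConnected) (h : CAlg.IsCatenary R) :
    CAlg.IsCatenary A :=
  (isCatenary_iff.mp h).of_embedding
    (OrderEmbedding.ofMapLEIff (PrimeSpectrum.comap φ)
      fun p q => ⟨hle p q, fun h => Ideal.comap_mono h⟩) hconn

lemma isCatenary_of_surjective (φ : R →+* A) (hφ : Function.Surjective φ) (h : CAlg.IsCatenary R) :
    CAlg.IsCatenary A := by
  refine isCatenary_of_comap φ (fun p q hpq => ?_) ?_ h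
  · exact (Ideal.comap_le_comap_iff_of_surjective φ hφ _ _).mp hpq
  · rw [range_comap_of_surjective _ φ hφ]
    exact ⟨fun a ha b _ c hc x hx => hc.1 (ha hx)⟩

lemma ordConnected_range_localization [Algebra R A] (M : Submonoid R) [IsLocalization M A] :
    (Set.range (PrimeSpectrum.comap (algebraMap R A))).OrdConnected := by
  rw [PrimeSpectrum.localization_comap_range A M]
  exact ⟨fun a _ b hb c hc => hb.mono_right (SetLike.coe_subset_coe.mpr hc.2)⟩

lemma le_of_comap_le_localization [Algebra R A] (M : Submonoid R) [IsLocalization M A]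
    (p q : PrimeSpectrum A)
    (h : PrimeSpectrum.comap (algebraMap R A) p ≤ PrimeSpectrum.comap (algebraMap R A) q) : p ≤ q :=
  (IsLocalization.orderEmbedding M A).le_iff_le.mp h

lemma isCatenary_of_isLocalization [Algebra R A] (M : Submonoid R) [IsLocalization M A]
    (h : CAlg.IsCatenary R) : CAlg.IsCatenary A :=
  isCatenary_of_comap (algebraMap R A) (le_of_comap_le_localization M)
    (ordConnected_range_localization M) h

lemma isCatenary_of_forall_localization (h : ∀ q : PrimeSpectrum R,
    ∃ (A : Type u) (_ : CommRing A) (_ : Algebra R A) (M : Submonoid R) (_ : IsLocalization M A),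
      Disjoint (M : Set R) q.asIdeal ∧ CAlg.IsCatenary A) : CAlg.IsCatenary R := by
  refine isCatenary_iff.mpr (cat_of_forall_exists fun a b hab => ?_)
  obtain ⟨A, _, _, M, _, hd, hA⟩ := h b
  let e : PrimeSpectrum A ↪o PrimeSpectrum R :=
    OrderEmbedding.ofMapLEIff (PrimeSpectrum.comap (algebraMap R A))
      fun p q => ⟨le_of_comap_le_localization M p q, fun h => Ideal.comap_mono h⟩
  have hmem : ∀ c : PrimeSpectrum R, c ≤ b → c ∈ Set.range e := fun c hc => by
    show c ∈ Set.range (PrimeSpectrum.comap (algebraMap R A))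
    rw [PrimeSpectrum.localization_comap_range A M]
    exact hd.mono_right (SetLike.coe_subset_coe.mpr hc)
  refine ⟨Set.range e, ordConnected_range_localization M, hmem a hab, hmem b le_rfl, ?_⟩
  exact (isCatenary_iff.mp hA).of_embedding e.orderIso.symm.toOrderEmbedding
    ⟨fun _ _ _ _ c _ => ⟨e.orderIso c, OrderIso.symm_apply_apply _ c⟩⟩

attribute [local instance] MvPolynomial.algebraMvPolynomial in
lemma isCatenary_mvPolynomial_localization [Algebra R A] (M : Submonoid R) [IsLocalization M A]
    {σ : Type} (h : CAlg.IsCatenary (MvPolynomial σ R)) : CAlg.IsCatenary (MvPolynomial σ A) :=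
  isCatenary_of_isLocalization (M.map (MvPolynomial.C (σ := σ))) h

attribute [local instance] MvPolynomial.algebraMvPolynomial in
lemma isCatenary_mvPolynomial_of_local {σ : Type}
    (h : ∀ p : PrimeSpectrum R, ∃ (A : Type u) (_ : CommRing A) (_ : Algebra R A)
      (_ : IsLocalization.AtPrime A p.asIdeal), CAlg.IsCatenary (MvPolynomial σ A)) :
    CAlg.IsCatenary (MvPolynomial σ R) := by
  refine isCatenary_of_forall_localization fun q => ?_
  let p : PrimeSpectrum R := PrimeSpectrum.comap (MvPolynomial.C (σ := σ)) q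
  obtain ⟨A, _, _, _, hA⟩ := h p
  refine ⟨MvPolynomial σ A, inferInstance, inferInstance, p.asIdeal.primeCompl.map MvPolynomial.C,
    inferInstance, ?_, hA⟩
  rw [Set.disjoint_left]
  rintro _ ⟨s, hs, rfl⟩ hq
  exact hs hq

lemma universallyCatenary_iff (S : Scheme.{u}) [IsLocallyNoetherian S] :
    (∀ (X : Scheme.{u}) (f : X ⟶ S), LocallyOfFiniteType f → PtTop.IsCatenarySpace X) ↔
      ∀ s : S, CAlg.IsUniversallyCatenary (S.presheaf.stalk s) := by
  constructor
  · intro h s
    refine ⟨inferInstance, fun B _ _ hB => ?_⟩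
    obtain ⟨n, φ, hφ⟩ := Algebra.FiniteType.iff_quotient_mvPolynomial''.mp hB
    refine isCatenary_of_surjective φ.toRingHom hφ ?_
    obtain ⟨U, hU, hsU, -⟩ := exists_isAffineOpen_mem_and_subset (x := s) (U := (⊤ : S.Opens)) trivial
    have hcat : CAlg.IsCatenary (MvPolynomial (Fin n) Γ(S, U)) := by
      let ψ : Γ(S, U) ⟶ CommRingCat.of (MvPolynomial (Fin n) Γ(S, U)) :=
        CommRingCat.ofHom MvPolynomial.C
      have : LocallyOfFiniteType (Spec.map ψ) :=
        (HasRingHomProperty.Spec_iff (P := @LocallyOfFiniteType)).mpr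
          (RingHom.finiteType_algebraMap.mpr
            (inferInstanceAs (Algebra.FiniteType Γ(S, U) (MvPolynomial (Fin n) Γ(S, U)))))
      have hX := h _ (Spec.map ψ ≫ hU.fromSpec) inferInstance
      exact isCatenary_of_space (R := CommRingCat.of (MvPolynomial (Fin n) Γ(S, U))) (𝟙 _)
        (𝟙 (Spec (CommRingCat.of (MvPolynomial (Fin n) Γ(S, U)))) : _ ⟶ _).isEmbedding
        (fun a b _ _ => ⟨b, rfl⟩) hX
    let := TopCat.Presheaf.algebra_section_stalk S.presheaf ⟨s, hsU⟩
    have := hU.isLocalization_stalk ⟨s, hsU⟩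
    exact isCatenary_mvPolynomial_localization (hU.primeIdealOf ⟨s, hsU⟩).asIdeal.primeCompl hcat
  · intro h X f hf
    refine ((isCatenarySpace_iff_affineOpens X).2).mpr fun x => ?_
    obtain ⟨U, hU, hxU, -⟩ :=
      exists_isAffineOpen_mem_and_subset (x := f x) (U := (⊤ : S.Opens)) trivial
    obtain ⟨V, hV, hxV, hVU⟩ := exists_isAffineOpen_mem_and_subset (x := x) (U := f ⁻¹ᵁ U) hxU
    refine ⟨⟨V, hV⟩, hxV, ?_⟩
    let : Algebra Γ(S, U) Γ(X, V) := (f.appLE U V hVU).hom.toAlgebra
    obtain ⟨n, φ, hφ⟩ := Algebra.FiniteType.iff_quotient_mvPolynomial''.mp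
      (show Algebra.FiniteType Γ(S, U) Γ(X, V) from f.finiteType_appLE hU hV hVU)
    refine isCatenary_of_surjective φ.toRingHom hφ (isCatenary_mvPolynomial_of_local fun p => ?_)
    let y : S := hU.fromSpec p
    have hy : y ∈ U := hU.range_fromSpec.le ⟨p, rfl⟩
    have hp : hU.primeIdealOf ⟨y, hy⟩ = p :=
      hU.fromSpec.isOpenEmbedding.injective (hU.fromSpec_primeIdealOf ⟨y, hy⟩)
    let := TopCat.Presheaf.algebra_section_stalk S.presheaf ⟨y, hy⟩
    have := hU.isLocalization_stalk ⟨y, hy⟩
    refine ⟨S.presheaf.stalk y, inferInstance, inferInstance, hp ▸ this, ?_⟩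
    exact (h y).2 _ inferInstance

end Groth.Agent.Cat58
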