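import Groth.Agent.Cat58.Space
import Groth.Agent.PtTop50.DimFun
import Mathlib.AlgebraicGeometry.Noetherian

/-! Dimension functions exist locally on catenary locally Noetherian spaces. -/

set_option autoImplicit false
universe u

open CategoryTheory TopologicalSpace AlgebraicGeometry

namespace Groth.Agent.Cat58

variable {P : Type*} [PartialOrder P]

lemma Sat.smash {s t : LTSeries P} (hs : Sat s) (ht : Sat t) (h : s.last = t.head) :
    Sat (RelSeries.smash s t h) := by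
  intro i
  refine Fin.addCases (fun j => ?_) (fun j => ?_) i
  · exact (congrArg₂ (· ⋖ ·) (RelSeries.smash_castAdd h j) (RelSeries.smash_succ_castAdd h j)).mpr (hs j)
  · exact (congrArg₂ (· ⋖ ·) (RelSeries.smash_natAdd h j) (RelSeries.smash_succ_natAdd h j)).mpr (ht j)

lemma exists_sat_of_le (h : Cat P) {a b : P} (hab : a ≤ b) :
    ∃ s : LTSeries P, s.head = a ∧ s.last = b ∧ Sat s := by
  obtain ⟨n, hn⟩ := h.1 a b hab
  rcases eq_or_lt_of_le hab with rfl | hlt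
  · obtain ⟨s, h0, h1, h2, -⟩ := exists_sat hn (RelSeries.singleton _ a) rfl rfl
    exact ⟨s, h0, h1, h2⟩
  · obtain ⟨s, h0, h1, h2, -⟩ :=
      exists_sat hn ((RelSeries.singleton _ a).snoc b hlt)
        ((RelSeries.head_snoc _ _ _).trans rfl) (RelSeries.last_snoc _ _ _)
    exact ⟨s, h0, h1, h2⟩

section

variable {X : Type u} [TopologicalSpace X] (h : Cat (IrreducibleCloseds X))

open Classical in
/-- The length of a saturated chain between a point and a specialization. -/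
noncomputable def len (x y : X) : ℤ :=
  if hxy : cl y ≤ cl x then ((exists_sat_of_le h hxy).choose.length : ℤ) else 0

lemma len_eq {x y : X} (s : LTSeries (IrreducibleCloseds X)) (h0 : s.head = cl y)
    (h1 : s.last = cl x) (hs : Sat s) : len h x y = s.length := by
  have hle : cl y ≤ cl x := by rw [← h0, ← h1]; exact head_le_last s
  obtain ⟨t0, t1, ht⟩ := (exists_sat_of_le h hle).choose_spec
  rw [len, dif_pos hle, h.2 _ s (t0.trans h0.symm) (t1.trans h1.symm) ht hs]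

lemma len_add {x y z : X} (hxy : x ⤳ y) (hyz : y ⤳ z) :
    len h x z = len h x y + len h y z := by
  obtain ⟨s, s0, s1, hs⟩ := exists_sat_of_le h (cl_le_cl.mpr hyz)
  obtain ⟨t, t0, t1, ht⟩ := exists_sat_of_le h (cl_le_cl.mpr hxy)
  rw [len_eq h s s0 s1 hs, len_eq h t t0 t1 ht,
    len_eq h (RelSeries.smash s t (s1.trans t0.symm)) (by simp [s0]) (by simp [t1]) (hs.smash ht _),
    RelSeries.smash_length]
  push_cast
  ring

lemma one_le_len [T0Space X] {x y : X} (hxy : x ⤳ y) (hne : x ≠ y) : 1 ≤ len h x y := by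
  obtain ⟨s, s0, s1, hs⟩ := exists_sat_of_le h (cl_le_cl.mpr hxy)
  rw [len_eq h s s0 s1 hs]
  by_contra hc
  have hlen : s.length = 0 := by omega
  refine hne (cl_injective (s1.symm.trans (Eq.trans ?_ s0)))
  exact congrArg s (Fin.ext (by simp [hlen]))

lemma len_of_immediate [T0Space X] [QuasiSober X] {x y : X}
    (hxy : PtTop.IsImmediateSpecialization x y) : len h x y = 1 := by
  have hlt : cl y < cl x := lt_of_le_of_ne (cl_le_cl.mpr hxy.1) fun e => hxy.2.1 (cl_injective e.symm)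
  rw [len_eq h ((RelSeries.singleton _ (cl y)).snoc (cl x) hlt)
    ((RelSeries.head_snoc _ _ _).trans rfl) (RelSeries.last_snoc _ _ _) ?_]
  · rfl
  intro i
  have hi : i.1 = 0 := Nat.lt_one_iff.mp i.2
  obtain rfl : i = ⟨0, Nat.one_pos⟩ := Fin.ext hi
  refine ⟨?_, fun c hc1 hc2 => ?_⟩
  · exact hlt
  obtain ⟨z, rfl⟩ := exists_eq_cl c
  change cl y < cl z at hc1
  change cl z < cl x at hc2
  rcases hxy.2.2 z (cl_le_cl.mp hc2.le) (cl_le_cl.mp hc1.le) with rfl | rfl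
  · exact lt_irrefl _ hc2
  · exact lt_irrefl _ hc1

end

/-- Near `s`, points of a closed subset of a Noetherian open share a generization with `s`. -/
lemma exists_nhds_common_generization {X : Type u} [TopologicalSpace X] [QuasiSober X] [T0Space X]
    (U : Opens X) [NoetherianSpace U] {F : Set X} (hF : IsClosed F) {s : X} (hs : s ∈ U) :
    ∃ N : Opens X, s ∈ N ∧ N ≤ U ∧ ∃ Ξ : Set X, Ξ.Finite ∧
      (∀ w ∈ Ξ, w ∈ F ∧ w ⤳ s) ∧ ∀ y ∈ N, y ∈ F → ∃ w ∈ Ξ, w ⤳ y := by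
  have : QuasiSober U := U.2.isOpenEmbedding_subtypeVal.quasiSober
  obtain ⟨T, hTfin, hTcl, hTirr, hT⟩ :=
    NoetherianSpace.exists_finite_set_isClosed_irreducible
      (hF.preimage (continuous_subtype_val : Continuous (Subtype.val : U → X)))
  let C : Set U := ⋃ Z ∈ {Z ∈ T | (⟨s, hs⟩ : U) ∉ Z}, Z
  have hC : IsClosed C :=
    (hTfin.subset (Set.sep_subset _ _)).isClosed_biUnion fun Z hZ => hTcl Z hZ.1
  refine ⟨⟨Subtype.val '' Cᶜ, U.2.isOpenMap_subtype_val _ hC.isOpen_compl⟩, ?_, ?_,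
    (fun w : U => (w : X)) '' {w | w ⤳ ⟨s, hs⟩ ∧ ∃ Z ∈ T, IsGenericPoint w Z}, ?_, ?_, ?_⟩
  · refine ⟨⟨s, hs⟩, fun hc => ?_, rfl⟩
    obtain ⟨Z, hZ, hsZ⟩ := Set.mem_iUnion₂.mp hc
    exact hZ.2 hsZ
  · rintro _ ⟨a, -, rfl⟩; exact a.2
  · refine Set.Finite.image _ (Set.Finite.subset (hTfin.biUnion fun Z _ =>
      (show ({w : U | IsGenericPoint w Z}).Subsingleton from fun a ha b hb => ha.eq hb).finite) ?_)
    rintro w ⟨-, Z, hZ, hw⟩
    exact Set.mem_biUnion hZ hw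
  · rintro _ ⟨w, ⟨hws, Z, hZ, hw⟩, rfl⟩
    exact ⟨(hT ▸ ⟨Z, hZ, hw.mem⟩ : w ∈ Subtype.val ⁻¹' F), hws.map continuous_subtype_val⟩
  · rintro _ ⟨a, ha, rfl⟩ haF
    obtain ⟨Z, hZ, haZ⟩ : a ∈ ⋃₀ T := hT ▸ haF
    have hsZ : (⟨s, hs⟩ : U) ∈ Z := by
      by_contra hc
      exact ha (Set.mem_iUnion₂.mpr ⟨Z, ⟨hZ, hc⟩, haZ⟩)
    have hg := (hTirr Z hZ).isGenericPoint_genericPoint (hTcl Z hZ)
    exact ⟨_, ⟨(hTirr Z hZ).genericPoint, ⟨hg.specializes hsZ, Z, hZ, hg⟩, rfl⟩,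
      (hg.specializes haZ).map continuous_subtype_val⟩

lemma exists_dimensionFunction {X : Type u} [TopologicalSpace X] [QuasiSober X] [T0Space X]
    (h : Cat (IrreducibleCloseds X)) (U : Opens X) [NoetherianSpace U] {s : X} (hs : s ∈ U) :
    ∃ N : Opens X, s ∈ N ∧ ∃ δ : N → ℤ, PtTop.IsDimensionFunction δ := by
  obtain ⟨N₀, hsN₀, -, Ξ, hΞfin, hΞ, hcov⟩ :=
    exists_nhds_common_generization U (F := Set.univ) isClosed_univ hs
  choose M hsM _ Θ _ hΘ hcovM using fun ξ : X × X =>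
    exists_nhds_common_generization U
      (F := closure {ξ.1} ∩ closure {ξ.2}) (isClosed_closure.inter isClosed_closure) hs
  let O : Opens X := ⟨⋂ p ∈ Ξ ×ˢ Ξ, (M p : Set X),
    (hΞfin.prod hΞfin).isOpen_biInter fun p _ => (M p).2⟩
  refine ⟨N₀ ⊓ O, ⟨hsN₀, Set.mem_iInter₂.mpr fun p _ => hsM p⟩, ?_⟩
  choose ξ hξΞ hξy using fun y : ↥(N₀ ⊓ O) => hcov y.1 y.2.1 trivial
  refine ⟨fun y => len h (ξ y) s - len h (ξ y) y, ?_⟩
  have key : ∀ (y : ↥(N₀ ⊓ O)) (η : X), η ∈ Ξ → η ⤳ y.1 →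
      len h η s - len h η y.1 = len h (ξ y) s - len h (ξ y) y.1 := by
    intro y η hη hηy
    have hy : y.1 ∈ M (η, ξ y) := Set.mem_iInter₂.mp y.2.2 (η, ξ y) ⟨hη, hξΞ y⟩
    obtain ⟨w, hw, hwy⟩ := hcovM (η, ξ y) y.1 hy
      ⟨hηy.mem_closure, (hξy y).mem_closure⟩
    obtain ⟨⟨hw1, hw2⟩, hws⟩ := hΘ (η, ξ y) w hw
    have a1 : η ⤳ w := specializes_iff_mem_closure.mpr hw1
    have a2 : ξ y ⤳ w := specializes_iff_mem_closure.mpr hw2
    rw [len_add h a1 hws, len_add h a1 hwy, len_add h a2 hws, len_add h a2 hwy]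
    ring
  have hsub : ∀ y z : ↥(N₀ ⊓ O), y ⤳ z →
      (len h (ξ y) s - len h (ξ y) y.1) - (len h (ξ z) s - len h (ξ z) z.1) = len h y.1 z.1 := by
    intro y z hyz
    have hyz' : y.1 ⤳ z.1 := hyz.map continuous_subtype_val
    rw [← key z (ξ y) (hξΞ y) ((hξy y).trans hyz'), len_add h (hξy y) hyz']
    ring
  refine ⟨fun y z hyz hne => ?_, fun y z hyz => ?_⟩
  · have h1 := one_le_len h (hyz.map continuous_subtype_val) fun e => hne (Subtype.ext e)
    have h2 := hsub y z hyz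
    beta_reduce
    omega
  · have him : PtTop.IsImmediateSpecialization y.1 z.1 := by
      refine ⟨hyz.1.map continuous_subtype_val, fun e => hyz.2.1 (Subtype.ext e), fun w h1 h2 => ?_⟩
      have hw : w ∈ N₀ ⊓ O := h2.mem_open (N₀ ⊓ O).2 z.2
      rcases hyz.2.2 ⟨w, hw⟩ (Topology.IsInducing.subtypeVal.specializes_iff.mp h1)
        (Topology.IsInducing.subtypeVal.specializes_iff.mp h2) with e | e
      · exact .inl (congrArg Subtype.val e)
      · exact .inr (congrArg Subtype.val e)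
    have h1 := len_of_immediate h him
    have h2 := hsub y z hyz.1
    beta_reduce
    omega

theorem isCatenarySpace_iff_dimensionFunction (S : Scheme.{u}) [IsLocallyNoetherian S] :
    PtTop.IsCatenarySpace S ↔
      ∀ s : S, ∃ U : S.Opens, s ∈ U ∧ ∃ δ : U → ℤ, PtTop.IsDimensionFunction δ := by
  constructor
  · intro h s
    obtain ⟨U, hU, hsU, -⟩ := exists_isAffineOpen_mem_and_subset (x := s) (U := (⊤ : S.Opens)) trivial
    have : IsNoetherianRing Γ(S, U) := IsLocallyNoetherian.component_noetherian ⟨U, hU⟩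
    exact @exists_dimensionFunction _ _ _ _ (isCatenarySpace_iff.mp h) U
      (noetherianSpace_of_isAffineOpen U hU) s hsU
  · intro h
    refine isCatenarySpace_of_cover fun x => ?_
    obtain ⟨U, hxU, δ, hδ⟩ := h x
    let v : (U : Scheme.{u}) := ⟨x, hxU⟩
    have hU : PtTop.IsCatenarySpace (U : Scheme.{u}) :=
      (@PtTop50.isCatenary_and_codim (U : Scheme.{u}) _ U.2.isOpenEmbedding_subtypeVal.quasiSober
        (Subtype.t0Space) δ hδ).1
    refine ⟨_, (U : Scheme.{u}).fromSpecStalk v ≫ U.ι, ?_, ?_, ⟨IsLocalRing.closedPoint _, ?_⟩,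
      (isCatenarySpace_iff_stalks _).mp hU v⟩
    · exact U.ι.isOpenEmbedding.isEmbedding.comp ((U : Scheme.{u}).fromSpecStalk v).isEmbedding
    · intro a b hab ha
      obtain ⟨p, rfl⟩ := ha
      have hbU : b ∈ U := hab.mem_open U.2 ((U : Scheme.{u}).fromSpecStalk v p).2
      obtain ⟨q, hq⟩ := range_fromSpecStalk_gen (X := (U : Scheme.{u})) v
        (show (⟨b, hbU⟩ : U) ⤳ _ from Topology.IsInducing.subtypeVal.specializes_iff.mp hab) ⟨p, rfl⟩
      exact ⟨q, congrArg (fun v : U => (v : S)) hq⟩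
    · show U.ι ((U : Scheme.{u}).fromSpecStalk v (IsLocalRing.closedPoint _)) = x
      rw [Scheme.fromSpecStalk_closedPoint]
      rfl

end Groth.Agent.Cat58
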