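import Mathlib.Order.RelSeries
import Mathlib.Order.Cover
import Mathlib.Order.Interval.Set.OrdConnected
import Mathlib.Data.Nat.Find

/-! Catenary partial orders. -/

set_option autoImplicit false

namespace Groth.Agent.Cat58

variable {P Q : Type*} [PartialOrder P] [PartialOrder Q]

/-- All steps of the series are covering relations. -/
def Sat (s : LTSeries P) : Prop := ∀ i : Fin s.length, s (Fin.castSucc i) ⋖ s (Fin.succ i)

/-- Catenary partial order. -/
def Cat (P : Type*) [PartialOrder P] : Prop :=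
  (∀ a b : P, a ≤ b → ∃ n : ℕ, ∀ s : LTSeries P, s.head = a → s.last = b → s.length ≤ n) ∧
  ∀ s t : LTSeries P, s.head = t.head → s.last = t.last → Sat s → Sat t → s.length = t.length

lemma head_le_last (s : LTSeries P) : s.head ≤ s.last :=
  s.monotone (Fin.zero_le _)

lemma mem_Icc (s : LTSeries P) (i : Fin (s.length + 1)) : s i ∈ Set.Icc s.head s.last :=
  ⟨s.monotone (Fin.zero_le _), s.monotone (Fin.le_last _)⟩

/-- An order embedding with order connected range carries saturated series to saturated series. -/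
lemma Sat.map {s : LTSeries P} (hs : Sat s) (f : P ↪o Q) (hf : (Set.range f).OrdConnected) :
    Sat (s.map f f.strictMono) := fun i => (hs i).image f hf

lemma exists_preimage (f : P ↪o Q) (hf : (Set.range f).OrdConnected) (t : LTSeries Q) {a b : P}
    (ha : t.head = f a) (hb : t.last = f b) :
    ∃ s : LTSeries P, s.length = t.length ∧ s.head = a ∧ s.last = b ∧ (Sat t → Sat s) := by
  have hmem : ∀ i, t i ∈ Set.range f := fun i =>
    hf.out ⟨a, ha.symm⟩ ⟨b, hb.symm⟩ (mem_Icc t i)
  choose g hg using hmem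
  have hmono : StrictMono g := fun i j hij => f.lt_iff_lt.mp (by
    rw [hg, hg]; exact t.strictMono hij)
  refine ⟨LTSeries.mk t.length g hmono, rfl, f.injective ?_, f.injective ?_, fun ht i => ?_⟩
  · show f (g 0) = _
    rw [hg]; exact ha
  · show f (g (Fin.last _)) = _
    rw [hg]; exact hb
  · have key : ∀ j : Fin t.length, f (g j.castSucc) ⋖ f (g j.succ) := fun j => by
      rw [hg, hg]; exact ht j
    exact CovBy.of_image f (key i)

lemma Cat.of_embedding (hQ : Cat Q) (f : P ↪o Q) (hf : (Set.range f).OrdConnected) : Cat P := by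
  refine ⟨fun a b hab => ?_, fun s t hh hl hs ht => ?_⟩
  · obtain ⟨n, hn⟩ := hQ.1 (f a) (f b) (f.monotone hab)
    exact ⟨n, fun s ha hb => hn (s.map f f.strictMono) (by simp [ha]) (by simp [hb])⟩
  · exact hQ.2 (s.map f f.strictMono) (t.map f f.strictMono) (by simp [hh]) (by simp [hl])
      (hs.map f hf) (ht.map f hf)

/-- Being catenary can be tested on convex pieces containing every comparable pair. -/
lemma cat_of_forall_exists (h : ∀ a b : P, a ≤ b →
    ∃ S : Set P, S.OrdConnected ∧ a ∈ S ∧ b ∈ S ∧ Cat S) : Cat P := by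
  have hconn : ∀ {S : Set P}, S.OrdConnected →
      (Set.range (OrderEmbedding.subtype (· ∈ S))).OrdConnected := fun {S} hS => by
    have : Set.range (OrderEmbedding.subtype (· ∈ S)) = S := Subtype.range_coe
    rwa [this]
  refine ⟨fun a b hab => ?_, fun s t hh hl hs ht => ?_⟩
  · obtain ⟨S, hS, ha, hb, hc⟩ := h a b hab
    obtain ⟨n, hn⟩ := hc.1 ⟨a, ha⟩ ⟨b, hb⟩ hab
    refine ⟨n, fun s h0 h1 => ?_⟩
    obtain ⟨s', hlen, h0', h1', -⟩ :=
      exists_preimage (OrderEmbedding.subtype (· ∈ S)) (hconn hS) s (a := ⟨a, ha⟩) (b := ⟨b, hb⟩) h0 h1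
    exact hlen ▸ hn s' h0' h1'
  · obtain ⟨S, hS, ha, hb, hc⟩ := h s.head s.last (head_le_last s)
    obtain ⟨s', hlen, h0, h1, hs'⟩ :=
      exists_preimage (OrderEmbedding.subtype (· ∈ S)) (hconn hS) s (a := ⟨_, ha⟩) (b := ⟨_, hb⟩) rfl rfl
    obtain ⟨t', hlen', h0', h1', ht'⟩ :=
      exists_preimage (OrderEmbedding.subtype (· ∈ S)) (hconn hS) t (a := ⟨_, ha⟩) (b := ⟨_, hb⟩)
        hh.symm hl.symm
    rw [← hlen, ← hlen']
    exact hc.2 s' t' (h0.trans h0'.symm) (h1.trans h1'.symm) (hs' hs) (ht' ht)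

/-- The reversed series in the dual order. -/
def dualSeries (s : LTSeries P) : LTSeries Pᵒᵈ :=
  LTSeries.mk s.length (fun i => OrderDual.toDual (s i.rev))
    fun _ _ hij => s.strictMono (Fin.rev_lt_rev.mpr hij)

/-- The reversed series, from the dual order. -/
def ofDualSeries (s : LTSeries Pᵒᵈ) : LTSeries P :=
  LTSeries.mk s.length (fun i => OrderDual.ofDual (s i.rev))
    fun _ _ hij => s.strictMono (Fin.rev_lt_rev.mpr hij)

lemma Cat.dual (h : Cat P) : Cat Pᵒᵈ := by
  refine ⟨fun a b hab => ?_, fun s t hh hl hs ht => ?_⟩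
  · obtain ⟨n, hn⟩ := h.1 (OrderDual.ofDual b) (OrderDual.ofDual a) hab
    refine ⟨n, fun s ha hb => hn (ofDualSeries s) ?_ ?_⟩
    · show OrderDual.ofDual (s (Fin.rev 0)) = _
      rw [Fin.rev_zero]; exact congrArg _ hb
    · show OrderDual.ofDual (s (Fin.rev (Fin.last _))) = _
      rw [Fin.rev_last]; exact congrArg _ ha
  · have key : ∀ s : LTSeries Pᵒᵈ, Sat s → Sat (ofDualSeries s) := fun s hs i => by
      show OrderDual.ofDual (s i.castSucc.rev) ⋖ OrderDual.ofDual (s i.succ.rev)
      rw [Fin.rev_castSucc, Fin.rev_succ]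
      exact ofDual_covBy_ofDual_iff.mpr (hs i.rev)
    refine h.2 (ofDualSeries s) (ofDualSeries t) ?_ ?_ (key s hs) (key t ht)
    · show OrderDual.ofDual (s (Fin.rev 0)) = OrderDual.ofDual (t (Fin.rev 0))
      rw [Fin.rev_zero, Fin.rev_zero]; exact congrArg _ hl
    · show OrderDual.ofDual (s (Fin.rev (Fin.last _))) = OrderDual.ofDual (t (Fin.rev (Fin.last _)))
      rw [Fin.rev_last, Fin.rev_last]; exact congrArg _ hh

lemma Cat.of_dual (h : Cat Pᵒᵈ) : Cat P :=
  h.dual.of_embedding
    (OrderEmbedding.ofMapLEIff (fun p : P => OrderDual.toDual (OrderDual.toDual p)) fun _ _ => .rfl)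
    ⟨fun a _ b _ c _ => ⟨OrderDual.ofDual (OrderDual.ofDual c), rfl⟩⟩

/-- If series with given ends have bounded length, one of them is saturated and as long as any. -/
lemma exists_sat {a b : P} {n : ℕ}
    (hn : ∀ s : LTSeries P, s.head = a → s.last = b → s.length ≤ n)
    (r : LTSeries P) (ha : r.head = a) (hb : r.last = b) :
    ∃ s : LTSeries P, s.head = a ∧ s.last = b ∧ Sat s ∧ r.length ≤ s.length := by
  classical
  let p : ℕ → Prop := fun k => ∃ s : LTSeries P, s.head = a ∧ s.last = b ∧ s.length = k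
  have hr : p r.length := ⟨r, ha, hb, rfl⟩
  obtain ⟨s, hsa, hsb, hlen⟩ : p (Nat.findGreatest p n) := Nat.findGreatest_spec (hn r ha hb) hr
  refine ⟨s, hsa, hsb, fun i => ⟨s.step i, fun c hc1 hc2 => ?_⟩,
    hlen ▸ Nat.le_findGreatest (hn r ha hb) hr⟩
  let s' := s.insertNth i c hc1 hc2
  have h0 : s'.head = a := by
    show Fin.insertNth (α := fun _ => P) i.succ.castSucc c s.toFun 0 = a
    rw [show (0 : Fin (s.length + 2)) = i.succ.castSucc.succAbove 0 from
      (Fin.succAbove_ne_zero_zero (by simp)).symm, Fin.insertNth_apply_succAbove]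
    exact hsa
  have h1 : s'.last = b := by
    show Fin.insertNth (α := fun _ => P) i.succ.castSucc c s.toFun (Fin.last (s.length + 1)) = b
    rw [show Fin.last (s.length + 1) = i.succ.castSucc.succAbove (Fin.last _) from
      (Fin.succAbove_ne_last_last (Fin.castSucc_lt_last _).ne).symm, Fin.insertNth_apply_succAbove]
    exact hsb
  have hle := Nat.le_findGreatest (P := p) (hn s' h0 h1) (show p s'.length from ⟨s', h0, h1, rfl⟩)
  have : s'.length = s.length + 1 := rfl
  omega

end Groth.Agent.Cat58
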