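import Groth.Agent.Cat58.Order
import Groth.Prelude.Def_Found
import Groth.Prelude.Def_W4stktopologysheavesDim
import Mathlib.Topology.Sober
import Mathlib.AlgebraicGeometry.AffineScheme
import Mathlib.AlgebraicGeometry.Properties
import Mathlib.AlgebraicGeometry.Stalk
import Mathlib.RingTheory.Spectrum.Prime.Topology

/-! Catenary spaces, catenary rings and their comparison on schemes. -/

set_option autoImplicit false
universe u

open CategoryTheory TopologicalSpace AlgebraicGeometry

namespace Groth.Agent.Cat58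

section Space

variable {X : Type u} [TopologicalSpace X]

lemma isCatenarySpace_iff : PtTop.IsCatenarySpace X ↔ Cat (IrreducibleCloseds X) := by
  constructor
  · intro h
    have hle : ∀ s : LTSeries (IrreducibleCloseds X),
        (s.length : ℕ∞) ≤ PtTop.codim s.head (s.last : Set X) := fun s => by
      exact le_iSup₂_of_le (f := fun (r : LTSeries (IrreducibleCloseds X))
        (_ : r.head = s.head ∧ (r.last : Set X) ⊆ s.last) => (r.length : ℕ∞)) s ⟨rfl, subset_rfl⟩ le_rfl
    refine ⟨fun a b hab => ?_, fun s t hh hl hs ht => ?_⟩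
    · obtain ⟨n, hn⟩ := ENat.ne_top_iff_exists.mp (h a b hab).1
      refine ⟨n, fun s ha hb => ?_⟩
      have := hle s
      rw [ha, hb, ← hn] at this
      exact_mod_cast this
    · have e1 := (h _ _ (head_le_last s)).2 s rfl rfl hs
      have e2 := (h _ _ (head_le_last s)).2 t hh.symm hl.symm ht
      exact_mod_cast e1.trans e2.symm
  · intro h T T' hTT'
    obtain ⟨n, hn⟩ := h.1 T T' hTT'
    -- extend any chain to one ending at `T'`
    have hext : ∀ r : LTSeries (IrreducibleCloseds X), r.head = T → (r.last : Set X) ⊆ T' →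
        ∃ r' : LTSeries (IrreducibleCloseds X), r'.head = T ∧ r'.last = T' ∧
          r.length ≤ r'.length := fun r hr hr' => by
      rcases eq_or_lt_of_le (show r.last ≤ T' from hr') with e | e
      · exact ⟨r, hr, e, le_rfl⟩
      · exact ⟨r.snoc T' e, by simp [hr], by simp, by show r.length ≤ r.length + 0 + 1; omega⟩
    refine ⟨?_, fun s hs0 hs1 hs => ?_⟩
    · refine ne_top_of_le_ne_top (ENat.natCast_ne_top n) (iSup₂_le fun r hr => ?_)
      obtain ⟨r', h0, h1, hle⟩ := hext r hr.1 hr.2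
      exact_mod_cast hle.trans (hn r' h0 h1)
    · refine le_antisymm (le_iSup₂_of_le (f := fun (r : LTSeries (IrreducibleCloseds X))
        (_ : r.head = T ∧ (r.last : Set X) ⊆ T') => (r.length : ℕ∞)) s ⟨hs0, hs1 ▸ subset_rfl⟩ le_rfl)
        (iSup₂_le fun r hr => ?_)
      obtain ⟨r', h0, h1, hle⟩ := hext r hr.1 hr.2
      obtain ⟨t, t0, t1, ht, hle'⟩ := exists_sat hn r' h0 h1
      have := h.2 s t (hs0.trans t0.symm) (hs1.trans t1.symm) hs ht
      exact_mod_cast (hle.trans hle').trans this.ge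

/-- The point closure. -/
def cl (x : X) : IrreducibleCloseds X :=
  ⟨closure {x}, isIrreducible_singleton.closure, isClosed_closure⟩

lemma cl_le_cl {x y : X} : cl y ≤ cl x ↔ x ⤳ y :=
  ⟨fun h => specializes_iff_mem_closure.mpr (h (subset_closure rfl)),
    fun h => closure_minimal (Set.singleton_subset_iff.mpr h.mem_closure) isClosed_closure⟩

lemma exists_eq_cl [QuasiSober X] (C : IrreducibleCloseds X) : ∃ x, cl x = C := by
  obtain ⟨x, hx⟩ := QuasiSober.sober C.isIrreducible C.isClosed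
  exact ⟨x, IrreducibleCloseds.ext hx⟩

lemma cl_injective [T0Space X] : Function.Injective (cl (X := X)) := fun x y h =>
  ((cl_le_cl.mp h.ge).antisymm (cl_le_cl.mp h.le)).eq

end Space

section Ring

variable {R : Type u} [CommRing R]

lemma isCatenary_iff : CAlg.IsCatenary R ↔ Cat (PrimeSpectrum R) := Iff.rfl

end Ring

section Scheme

variable {X : Scheme.{u}} {R : CommRingCat.{u}} (f : Spec R ⟶ X)
  (hf : Topology.IsEmbedding f) (hgen : StableUnderGeneralization (Set.range f))

/-- The primes of `R` as irreducible closed subsets of `X`. -/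
noncomputable def emb : (PrimeSpectrum R)ᵒᵈ ↪o IrreducibleCloseds X :=
  OrderEmbedding.ofMapLEIff (fun p => cl (f (OrderDual.ofDual p))) fun a b =>
    cl_le_cl.trans (hf.isInducing.specializes_iff.trans
      (PrimeSpectrum.le_iff_specializes (OrderDual.ofDual b) (OrderDual.ofDual a)).symm)

include hgen in
lemma range_emb_upper {a : (PrimeSpectrum R)ᵒᵈ} {C : IrreducibleCloseds X} (h : emb f hf a ≤ C) :
    C ∈ Set.range (emb f hf) := by
  obtain ⟨c, rfl⟩ := exists_eq_cl C
  obtain ⟨p, hp⟩ := hgen (cl_le_cl.mp h) ⟨_, rfl⟩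
  exact ⟨OrderDual.toDual p, congrArg cl hp⟩

include hgen in
lemma ordConnected_range_emb : (Set.range (emb f hf)).OrdConnected :=
  ⟨fun _ ⟨a, ha⟩ _ _ _ hc => range_emb_upper f hf hgen (ha ▸ hc.1)⟩

include hf hgen in
lemma isCatenary_of_space (h : PtTop.IsCatenarySpace X) : CAlg.IsCatenary R :=
  isCatenary_iff.mpr (Cat.of_dual
    ((isCatenarySpace_iff.mp h).of_embedding (emb f hf) (ordConnected_range_emb f hf hgen)))

omit f in
lemma isCatenarySpace_of_cover
    (h : ∀ x : X, ∃ (R : CommRingCat.{u}) (f : Spec R ⟶ X), Topology.IsEmbedding f ∧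
      StableUnderGeneralization (Set.range f) ∧ x ∈ Set.range f ∧ CAlg.IsCatenary R) :
    PtTop.IsCatenarySpace X := by
  refine isCatenarySpace_iff.mpr (cat_of_forall_exists fun a b hab => ?_)
  obtain ⟨x, rfl⟩ := exists_eq_cl a
  obtain ⟨R, f, hf, hgen, ⟨p, hp⟩, hR⟩ := h x
  have ha : cl x ∈ Set.range (emb f hf) := ⟨OrderDual.toDual p, congrArg cl hp⟩
  refine ⟨Set.range (emb f hf), ordConnected_range_emb f hf hgen, ha, ?_, ?_⟩
  · obtain ⟨q, hq⟩ := ha
    exact range_emb_upper f hf hgen (hq ▸ hab)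
  · exact (isCatenary_iff.mp hR).dual.of_embedding
      (OrderEmbedding.ofMapLEIff (fun c => (c.2.choose : (PrimeSpectrum R)ᵒᵈ)) fun c d => by
        rw [← (emb f hf).le_iff_le, c.2.choose_spec, d.2.choose_spec]; rfl)
      ⟨fun _ _ _ _ e _ => ⟨⟨_, ⟨e, rfl⟩⟩, (emb f hf).injective
        (Exists.choose_spec (p := fun a => emb f hf a = emb f hf e) ⟨e, rfl⟩)⟩⟩

lemma range_fromSpec_gen {U : X.Opens} (hU : IsAffineOpen U) :
    StableUnderGeneralization (Set.range hU.fromSpec) := by
  rw [hU.range_fromSpec]; exact U.2.stableUnderGeneralization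

lemma range_fromSpecStalk_gen (x : X) :
    StableUnderGeneralization (Set.range (X.fromSpecStalk x)) := by
  rw [Scheme.range_fromSpecStalk]; exact fun a b h (ha : a ⤳ x) => h.trans ha

lemma isCatenarySpace_iff_affineOpens (S : Scheme.{u}) :
    (PtTop.IsCatenarySpace S ↔ ∀ U : S.affineOpens, CAlg.IsCatenary Γ(S, U)) ∧
    (PtTop.IsCatenarySpace S ↔
      ∀ s : S, ∃ U : S.affineOpens, s ∈ (U : S.Opens) ∧ CAlg.IsCatenary Γ(S, U)) := by
  have fwd : PtTop.IsCatenarySpace S → ∀ U : S.affineOpens, CAlg.IsCatenary Γ(S, U) :=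
    fun h U => isCatenary_of_space U.2.fromSpec U.2.isOpenImmersion_fromSpec.1.isEmbedding
      (range_fromSpec_gen U.2) h
  have bwd : (∀ s : S, ∃ U : S.affineOpens, s ∈ (U : S.Opens) ∧ CAlg.IsCatenary Γ(S, U)) →
      PtTop.IsCatenarySpace S := fun h => isCatenarySpace_of_cover fun s => by
    obtain ⟨U, hs, hU⟩ := h s
    exact ⟨_, U.2.fromSpec, U.2.isOpenImmersion_fromSpec.1.isEmbedding, range_fromSpec_gen U.2,
      U.2.range_fromSpec ▸ hs, hU⟩
  have any : (∀ U : S.affineOpens, CAlg.IsCatenary Γ(S, U)) →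
      ∀ s : S, ∃ U : S.affineOpens, s ∈ (U : S.Opens) ∧ CAlg.IsCatenary Γ(S, U) := fun h s => by
    obtain ⟨U, hU, hsU, -⟩ := exists_isAffineOpen_mem_and_subset (x := s) (U := (⊤ : S.Opens)) trivial
    exact ⟨⟨U, hU⟩, hsU, h _⟩
  exact ⟨⟨fwd, fun h => bwd (any h)⟩, ⟨fun h => any (fwd h), bwd⟩⟩

lemma isCatenarySpace_iff_stalks (S : Scheme.{u}) :
    PtTop.IsCatenarySpace S ↔ ∀ x : S, CAlg.IsCatenary (S.presheaf.stalk x) :=
  ⟨fun h x => isCatenary_of_space (S.fromSpecStalk x) (S.fromSpecStalk x).isEmbedding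
      (range_fromSpecStalk_gen x) h,
    fun h => isCatenarySpace_of_cover fun x => ⟨_, S.fromSpecStalk x, (S.fromSpecStalk x).isEmbedding,
      range_fromSpecStalk_gen x, by rw [Scheme.range_fromSpecStalk]; exact specializes_rfl, h x⟩⟩

end Scheme

end Groth.Agent.Cat58
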